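import Groth.Prelude.Def_CInt
import Mathlib.RingTheory.Regular.RegularSequence
import Mathlib.RingTheory.Nakayama
import Mathlib.RingTheory.Noetherian.Basic
import Mathlib.Data.Fin.Tuple.Basic

/-! # Weakly regular sequences in the Jacobson radical -/

universe u v

namespace Groth.Agent.CIntSeq

open RingTheory.Sequence Pointwise

variable {A : Type u} [CommRing A] {n : ℕ}

theorem ofList_ofFn (f : Fin n → A) : Ideal.ofList (List.ofFn f) = Ideal.span (Set.range f) := by
  unfold Ideal.ofList
  congr 1
  ext x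
  simp [List.mem_ofFn]

theorem mem_span_range_smul_top {M : Type v} [AddCommGroup M] [Module A M] (f : Fin n → A) (x : M) :
    x ∈ Ideal.span (Set.range f) • (⊤ : Submodule A M) ↔ ∃ m : Fin n → M, ∑ k, f k • m k = x := by
  classical
  constructor
  · intro hx
    refine Submodule.smul_induction_on hx (fun r hr w _ => ?_) ?_
    · induction hr using Submodule.span_induction with
      | mem r hr =>
        obtain ⟨k, rfl⟩ := hr
        refine ⟨Pi.single k w, ?_⟩
        rw [Finset.sum_eq_single k]
        · simp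
        · intro j _ hj; simp [hj]
        · simp
      | zero => exact ⟨0, by simp⟩
      | add a b _ _ ha hb =>
        obtain ⟨m, hm⟩ := ha
        obtain ⟨m', hm'⟩ := hb
        exact ⟨m + m', by simp [Finset.sum_add_distrib, hm, hm', add_smul]⟩
      | smul c r _ hr =>
        obtain ⟨m, hm⟩ := hr
        refine ⟨c • m, ?_⟩
        rw [smul_assoc, ← hm, Finset.smul_sum]
        exact Finset.sum_congr rfl fun k _ => smul_comm _ _ _
    · rintro a b ⟨m, rfl⟩ ⟨m', rfl⟩
      exact ⟨m + m', by simp [Finset.sum_add_distrib]⟩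
  · rintro ⟨m, rfl⟩
    exact Submodule.sum_mem _ fun k _ =>
      Submodule.smul_mem_smul (Ideal.subset_span ⟨k, rfl⟩) Submodule.mem_top

theorem isWeaklyRegular_ofFn_succ {M : Type v} [AddCommGroup M] [Module A M] (f : Fin (n + 1) → A) :
    IsWeaklyRegular M (List.ofFn f) ↔ IsWeaklyRegular M (List.ofFn (f ∘ Fin.castSucc)) ∧
      ∀ x : M, f (Fin.last n) • x ∈ Ideal.span (Set.range (f ∘ Fin.castSucc)) • (⊤ : Submodule A M) →
        x ∈ Ideal.span (Set.range (f ∘ Fin.castSucc)) • (⊤ : Submodule A M) := by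
  rw [List.ofFn_succ', List.concat_eq_append, isWeaklyRegular_append_iff, isWeaklyRegular_singleton_iff,
    isSMulRegular_quotient_iff_mem_of_smul_mem, ← ofList_ofFn]
  rfl

section H1

variable {M : Type v} [AddCommGroup M] [Module A M]

/-- The trivial relations. -/
def trivRel (f : Fin n → A) (M : Type v) [AddCommGroup M] [Module A M] : Submodule A (Fin n → M) :=
  Submodule.span A {v : Fin n → M | ∃ (i j : Fin n) (x : M),
    v = f j • (Pi.single i x : Fin n → M) - f i • (Pi.single j x : Fin n → M)}

theorem koszulH1Zero_iff (f : Fin n → A) :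
    CInt.KoszulH1Zero f M ↔ ∀ m : Fin n → M, ∑ i, f i • m i = 0 → m ∈ trivRel f M := Iff.rfl

theorem init_single_castSucc (i : Fin n) (x : M) :
    Fin.init (Pi.single i.castSucc x : Fin (n + 1) → M) = Pi.single i x := by
  funext k
  simp [Fin.init, Pi.single_apply, Fin.castSucc_inj]

theorem init_single_last (x : M) : Fin.init (Pi.single (Fin.last n) x : Fin (n + 1) → M) = 0 := by
  funext k
  simp [Fin.init, Pi.single_apply, (Fin.castSucc_lt_last k).ne]

theorem trivRel_init (f : Fin (n + 1) → A) {v : Fin (n + 1) → M} (hv : v ∈ trivRel f M) :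
    ∃ b ∈ trivRel (f ∘ Fin.castSucc) M, ∃ w : Fin n → M,
      Fin.init v = b + f (Fin.last n) • w ∧ v (Fin.last n) = -∑ k, f (Fin.castSucc k) • w k := by
  classical
  induction hv using Submodule.span_induction with
  | mem v hv =>
    obtain ⟨i, j, x, rfl⟩ := hv
    have hinit : Fin.init (f j • (Pi.single i x : Fin (n + 1) → M) - f i • (Pi.single j x : Fin (n + 1) → M)) =
        f j • Fin.init (Pi.single i x : Fin (n + 1) → M) - f i • Fin.init (Pi.single j x : Fin (n + 1) → M) := rfl
    refine Fin.lastCases ?_ (fun a => ?_) i hinit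
    · refine Fin.lastCases ?_ (fun b => ?_) j
      · exact fun h => ⟨0, zero_mem _, 0, by rw [h]; simp, by simp⟩
      · intro h
        refine ⟨0, zero_mem _, -(Pi.single b x : Fin n → M), ?_, ?_⟩
        · rw [h, init_single_castSucc, init_single_last]; simp
        · rw [Finset.sum_eq_single b]
          · simp [(Fin.castSucc_lt_last b).ne']
          · intro k _ hk; simp [hk]
          · simp
    · refine Fin.lastCases ?_ (fun b => ?_) j
      · intro h
        refine ⟨0, zero_mem _, Pi.single a x, ?_, ?_⟩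
        · rw [h, init_single_castSucc, init_single_last]; simp
        · rw [Finset.sum_eq_single a]
          · simp [(Fin.castSucc_lt_last a).ne']
          · intro k _ hk; simp [hk]
          · simp
      · intro h
        refine ⟨_, Submodule.subset_span ⟨a, b, x, rfl⟩, 0, ?_, ?_⟩
        · rw [h, init_single_castSucc, init_single_castSucc]; simp
        · simp [(Fin.castSucc_lt_last a).ne', (Fin.castSucc_lt_last b).ne']
  | zero => exact ⟨0, zero_mem _, 0, by funext k; simp [Fin.init], by simp⟩
  | add a b _ _ ha hb =>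
    obtain ⟨b₁, hb₁, w₁, e₁, l₁⟩ := ha
    obtain ⟨b₂, hb₂, w₂, e₂, l₂⟩ := hb
    refine ⟨b₁ + b₂, add_mem hb₁ hb₂, w₁ + w₂, ?_, ?_⟩
    · rw [show Fin.init (a + b) = Fin.init a + Fin.init b from rfl, e₁, e₂, smul_add]; abel
    · simp only [Pi.add_apply, l₁, l₂, smul_add, Finset.sum_add_distrib, neg_add]
  | smul c a _ ha =>
    obtain ⟨b₁, hb₁, w₁, e₁, l₁⟩ := ha
    refine ⟨c • b₁, Submodule.smul_mem _ c hb₁, c • w₁, ?_, ?_⟩
    · rw [show Fin.init (c • a) = c • Fin.init a from rfl, e₁, smul_add, smul_comm]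
    · simp only [Pi.smul_apply, l₁, smul_neg, Finset.smul_sum, smul_comm c]

theorem isWeaklyRegular_of_koszulH1Zero [IsNoetherianRing A] [Module.Finite A M] :
    ∀ {n : ℕ} (f : Fin n → A), (∀ i, f i ∈ (⊥ : Ideal A).jacobson) → CInt.KoszulH1Zero f M →
      IsWeaklyRegular M (List.ofFn f) := by
  intro n
  induction n with
  | zero => intro f _ _; simp
  | succ n ih =>
    intro f hrad h
    let Z : Submodule A (Fin n → M) :=
      LinearMap.ker (∑ k, f (Fin.castSucc k) • (LinearMap.proj k : (Fin n → M) →ₗ[A] M))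
    have hZmem : ∀ z, z ∈ Z ↔ ∑ k, f (Fin.castSucc k) • z k = 0 := fun z => by simp [Z]
    have hZ : Z ≤ trivRel (f ∘ Fin.castSucc) M := by
      refine Submodule.le_of_le_smul_of_le_jacobson_bot (IsNoetherian.noetherian Z)
        (I := Ideal.span {f (Fin.last n)}) ?_ fun z hz => ?_
      · rw [Ideal.span_le, Set.singleton_subset_iff]; exact hrad _
      · rw [hZmem] at hz
        obtain ⟨b, hb, w, e, l⟩ := trivRel_init f (h (Fin.snoc z 0) (by
          rw [Fin.sum_univ_castSucc]; simp [hz]))
        rw [Fin.init_snoc] at e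
        rw [Fin.snoc_last, zero_eq_neg] at l
        rw [e]
        exact Submodule.add_mem_sup hb
          (Submodule.smul_mem_smul (Ideal.mem_span_singleton_self _) ((hZmem w).2 l))
    rw [isWeaklyRegular_ofFn_succ]
    refine ⟨ih _ (fun i => hrad _) fun m hm => hZ ((hZmem m).2 hm), fun x hx => ?_⟩
    obtain ⟨m, hm⟩ := (mem_span_range_smul_top _ _).1 hx
    simp only [Function.comp_apply] at hm
    obtain ⟨b, hb, w, e, l⟩ := trivRel_init f (h (Fin.snoc m (-x)) (by
      rw [Fin.sum_univ_castSucc]; simp [hm]))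
    rw [Fin.snoc_last, neg_inj] at l
    exact (mem_span_range_smul_top _ _).2 ⟨w, l.symm⟩

end H1

theorem isWeaklyRegular_quotient [IsNoetherianRing A] {M' M M'' : Type v}
    [AddCommGroup M'] [Module A M'] [AddCommGroup M] [Module A M] [AddCommGroup M''] [Module A M'']
    [Module.Finite A M''] (i : M' →ₗ[A] M) (p : M →ₗ[A] M'') (hi : Function.Injective i)
    (hp : Function.Surjective p) (hex : Function.Exact i p) :
    ∀ {n : ℕ} (f : Fin n → A), (∀ k, f k ∈ (⊥ : Ideal A).jacobson) →
      IsWeaklyRegular M (List.ofFn f) →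
      (∀ x : M', i x ∈ Ideal.span (Set.range f) • (⊤ : Submodule A M) →
        x ∈ Ideal.span (Set.range f) • (⊤ : Submodule A M')) →
      IsWeaklyRegular M'' (List.ofFn f) := by
  intro n
  induction n with
  | zero => intro f _ _ _; simp
  | succ n ih =>
    intro f hrad hM hinj
    classical
    rw [isWeaklyRegular_ofFn_succ] at hM
    let g := f (Fin.last n)
    let J : Ideal A := Ideal.span (Set.range (f ∘ Fin.castSucc))
    have hIJ : Ideal.span (Set.range f) = J ⊔ Ideal.span {g} := by
      rw [← Ideal.span_union]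
      congr 1
      ext a
      constructor
      · rintro ⟨k, rfl⟩
        exact Fin.lastCases (Or.inr rfl) (fun k => Or.inl ⟨k, rfl⟩) k
      · rintro (⟨k, rfl⟩ | rfl) <;> exact ⟨_, rfl⟩
    have hsplit : ∀ (N : Type v) [AddCommGroup N] [Module A N] (y : N),
        y ∈ Ideal.span (Set.range f) • (⊤ : Submodule A N) ↔
          ∃ z, y - g • z ∈ J • (⊤ : Submodule A N) := by
      intro N _ _ y
      rw [hIJ, Submodule.sup_smul, Submodule.mem_sup]
      constructor
      · rintro ⟨a, ha, b, hb, rfl⟩
        rw [Submodule.ideal_span_singleton_smul] at hb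
        obtain ⟨z, -, rfl⟩ := (Submodule.mem_smul_pointwise_iff_exists _ _ _).1 hb
        exact ⟨z, by simpa using ha⟩
      · rintro ⟨z, hz⟩
        exact ⟨_, hz, g • z, Submodule.smul_mem_smul (Ideal.mem_span_singleton_self _) trivial,
          sub_add_cancel _ _⟩
    have hmapJ : ∀ {w : M'}, w ∈ J • (⊤ : Submodule A M') → i w ∈ J • (⊤ : Submodule A M) :=
      fun hw => Submodule.smul_top_le_comap_smul_top J i hw
    have hdiv : ∀ x : M', i x ∈ J • (⊤ : Submodule A M) →
        ∃ z, x - g • z ∈ J • (⊤ : Submodule A M') ∧ i z ∈ J • (⊤ : Submodule A M) := by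
      intro x hx
      obtain ⟨z, hz⟩ := (hsplit M' x).1 (hinj x ((hsplit M (i x)).2 ⟨0, by simpa using hx⟩))
      refine ⟨z, hz, hM.2 (i z) ?_⟩
      have := sub_mem hx (hmapJ hz)
      rwa [map_sub, sub_sub_cancel, map_smul] at this
    -- the relations in the quotient are finitely generated
    let R : Submodule A (Fin n → M'') :=
      LinearMap.ker (∑ k, f (Fin.castSucc k) • (LinearMap.proj k : (Fin n → M'') →ₗ[A] M''))
    obtain ⟨s, hs⟩ := IsNoetherian.noetherian R
    have hlift : ∀ r : s, ∃ (m : Fin n → M) (x : M'),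
        (∀ k, p (m k) = r.1 k) ∧ ∑ k, f (Fin.castSucc k) • m k = i x := by
      intro r
      choose m hm using fun k => hp (r.1 k)
      have hr : r.1 ∈ R := hs ▸ Submodule.subset_span r.2
      obtain ⟨x, hx⟩ := (hex (∑ k, f (Fin.castSucc k) • m k)).1 (by
        simp only [map_sum, map_smul, hm]; simpa [R] using hr)
      exact ⟨m, x, hm, hx.symm⟩
    choose lm lx hlm hlx using hlift
    let K : Submodule A M' := Submodule.span A (Set.range lx)
    have hgen : ∀ x : M', i x ∈ J • (⊤ : Submodule A M) → x ∈ J • (⊤ : Submodule A M') ⊔ K := by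
      intro x hx
      obtain ⟨m, hm⟩ := (mem_span_range_smul_top _ _).1 hx
      simp only [Function.comp_apply] at hm
      have hr : (fun k => p (m k)) ∈ R := by
        have := congrArg p hm
        rw [hex.apply_apply_eq_zero] at this
        simpa [R] using this
      rw [← hs] at hr
      obtain ⟨c, hcsupp, hc⟩ := Submodule.mem_span_finset.1 hr
      obtain ⟨w, hw⟩ : ∃ w : Fin n → M', ∀ k, i (w k) = m k - ∑ r ∈ s.attach, c r.1 • lm r k := by
        choose w hw using fun k => (hex (m k - ∑ r ∈ s.attach, c r.1 • lm r k)).1 (by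
          rw [map_sub, map_sum, sub_eq_zero]
          simp only [map_smul, hlm]
          rw [Finset.sum_attach s (fun r => c r • r k)]
          have := congr_fun hc k
          simpa [Finset.sum_apply] using this.symm)
        exact ⟨w, hw⟩
      have hxeq : x = (∑ r ∈ s.attach, c r.1 • lx r) + ∑ k, f (Fin.castSucc k) • w k := by
        apply hi
        simp only [map_add, map_sum, map_smul, hw, ← hlx, ← hm, smul_sub, Finset.sum_sub_distrib,
          Finset.smul_sum]
        rw [Finset.sum_comm]
        simp only [smul_comm (f (Fin.castSucc _))]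
        abel
      rw [hxeq, add_comm]
      exact Submodule.add_mem_sup ((mem_span_range_smul_top (f ∘ Fin.castSucc) _).2 ⟨w, rfl⟩)
        (Submodule.sum_mem _ fun r _ => Submodule.smul_mem _ _ (Submodule.subset_span ⟨r, rfl⟩))
    have hlxJ : ∀ r, i (lx r) ∈ J • (⊤ : Submodule A M) := fun r =>
      hlx r ▸ (mem_span_range_smul_top (f ∘ Fin.castSucc) _).2 ⟨lm r, rfl⟩
    have hK : K ≤ J • (⊤ : Submodule A M') := by
      refine Submodule.le_of_le_smul_of_le_jacobson_bot (Submodule.fg_span (Set.finite_range lx))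
        (I := Ideal.span {g}) ?_ (Submodule.span_le.2 ?_)
      · rw [Ideal.span_le, Set.singleton_subset_iff]; exact hrad _
      · rintro _ ⟨r, rfl⟩
        obtain ⟨z, hz, hzM⟩ := hdiv _ (hlxJ r)
        obtain ⟨a, ha, b, hb, rfl⟩ := Submodule.mem_sup.1 (hgen z hzM)
        have : lx r = (lx r - g • (a + b) + g • a) + g • b := by rw [smul_add]; abel
        rw [SetLike.mem_coe, this]
        exact Submodule.add_mem_sup (add_mem hz (Submodule.smul_mem _ _ ha))
          (Submodule.smul_mem_smul (Ideal.mem_span_singleton_self _) hb)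
    have hinjJ : ∀ x : M', i x ∈ J • (⊤ : Submodule A M) → x ∈ J • (⊤ : Submodule A M') := fun x hx =>
      sup_le le_rfl hK (hgen x hx)
    rw [isWeaklyRegular_ofFn_succ]
    refine ⟨ih _ (fun k => hrad _) hM.1 hinjJ, fun x'' hx'' => ?_⟩
    obtain ⟨x, rfl⟩ := hp x''
    obtain ⟨m'', hm''⟩ := (mem_span_range_smul_top _ _).1 hx''
    simp only [Function.comp_apply] at hm''
    choose m hm using fun k => hp (m'' k)
    obtain ⟨w, hw⟩ := (hex (g • x - ∑ k, f (Fin.castSucc k) • m k)).1 (by
      rw [map_sub, map_smul, map_sum]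
      simp [map_smul, hm, hm'', g])
    obtain ⟨z, hz⟩ := (hsplit M' w).1 (hinj w ((hsplit M (i w)).2 ⟨x, by
      rw [hw, sub_sub_cancel_left]
      exact neg_mem ((mem_span_range_smul_top (f ∘ Fin.castSucc) _).2 ⟨m, rfl⟩)⟩))
    have h1 : g • (x - i z) ∈ J • (⊤ : Submodule A M) := by
      have h2 := add_mem (hmapJ hz) ((mem_span_range_smul_top (f ∘ Fin.castSucc) _).2 ⟨m, rfl⟩)
      simp only [Function.comp_apply] at h2
      rw [map_sub, hw, map_smul] at h2
      rw [smul_sub]
      convert h2 using 1
      abel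
    have h3 := Submodule.smul_top_le_comap_smul_top J p (hM.2 _ h1)
    rwa [Submodule.mem_comap, map_sub, hex.apply_apply_eq_zero, sub_zero] at h3

end Groth.Agent.CIntSeq
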